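import Groth.Agent.TopCoh49.Coh
import Groth.Agent.TopCoh49.Compare
import Mathlib.Algebra.Homology.HomologicalComplexAbelian
import Mathlib.CategoryTheory.Abelian.Refinements
import Mathlib.Topology.Sheaves.AddCommGrpCat

/-! Sections of a flasque resolution over an open on which the resolved sheaf is acyclic. -/

set_option autoImplicit false
universe u

open CategoryTheory CategoryTheory.Limits Opposite TopologicalSpace Groth.Agent.TopCoh49

namespace RLim49

variable {X : TopCat.{u}}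

lemma acyclic_step {S : ShortComplex (CohTop.Ab X)} (hS : S.ShortExact)
    (h₂ : TopCat.Sheaf.IsFlasque S.X₂) (U : Opens X)
    (h₁ : ∀ j, Subsingleton (E S.X₁ (j + 1) U)) :
    (∀ j, Subsingleton (E S.X₃ (j + 1) U)) ∧
      Function.Surjective (S.g.hom.app (op U)) := by
  haveI := h₂
  have hfl : ∀ j, Subsingleton (E S.X₂ (j + 1) U) := fun j =>
    subsingleton_E_of_isFlasque j S.X₂ U
  refine ⟨fun j => ?_, fun s => ?_⟩
  · haveI := h₁ (j + 1)
    exact (δ_bijective hS (rfl : j + 1 + 1 = j + 2) U (hfl j) (hfl (j + 1))).injective.subsingleton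
  · haveI := h₁ 0
    obtain ⟨y, hy⟩ := exact₃ hS (zero_add 1) U ((E₀ S.X₃ U).symm s)
      (Subsingleton.elim (α := E S.X₁ 1 U) _ _)
    refine ⟨E₀ S.X₂ U y, ?_⟩
    rw [← E₀_emap, hy, AddEquiv.apply_symm_apply]

variable (K : CochainComplex (CohTop.Ab X) ℕ)

/-- The sequence cycles, terms, next cycles. -/
noncomputable abbrev cySES (p : ℕ) : ShortComplex (CohTop.Ab X) :=
  ShortComplex.mk (K.iCycles p) (K.toCycles p (p + 1)) (by
    rw [← cancel_mono (K.iCycles (p + 1))]
    simp)

lemma epi_toCycles (p : ℕ) (h : K.ExactAt (p + 1)) : Epi (K.toCycles p (p + 1)) := by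
  rw [epi_iff_surjective_up_to_refinements]
  intro A y
  obtain ⟨A', π, hπ, x, hx⟩ : ∃ (A' : CohTop.Ab X) (π : A' ⟶ A) (_ : Epi π) (x : A' ⟶ K.X p),
      π ≫ y ≫ K.iCycles (p + 1) = x ≫ K.d p (p + 1) :=
    ((K.exactAt_iff' p (p + 1) (p + 2) (by simp) (by simp)).1 h).exact_up_to_refinements _
      (show (y ≫ K.iCycles (p + 1)) ≫ K.d (p + 1) (p + 2) = 0 by
        rw [Category.assoc, K.iCycles_d (p + 1) (p + 2), comp_zero])
  refine ⟨A', π, hπ, x, ?_⟩
  rw [← cancel_mono (K.iCycles (p + 1)), Category.assoc, Category.assoc, hx, K.toCycles_i]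

lemma cySES_shortExact (p : ℕ) (h : K.ExactAt (p + 1)) : (cySES K p).ShortExact := by
  haveI := epi_toCycles K p h
  refine ShortComplex.ShortExact.mk' ?_ inferInstance this
  rw [ShortComplex.exact_iff_exact_up_to_refinements]
  intro A x hx
  have hd : x ≫ K.d p (p + 1) = 0 := by
    rw [← K.toCycles_i p (p + 1)]
    change (x ≫ K.toCycles p (p + 1)) = 0 at hx
    rw [reassoc_of% hx, zero_comp]
  refine ⟨A, 𝟙 A, inferInstance, K.liftCycles x (p + 1) (by simp) hd, ?_⟩
  rw [Category.id_comp]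
  exact (K.liftCycles_i _ _ _ _).symm

variable {F : CohTop.Ab X} (ι : F ⟶ K.X 0) (w : ι ≫ K.d 0 1 = 0)
  (hι : (ShortComplex.mk ι (K.d 0 1) w).Exact) [Mono ι]

include hι in
lemma augSES_shortExact (h : K.ExactAt 1) :
    ∃ w' : ι ≫ K.toCycles 0 1 = 0, (ShortComplex.mk ι (K.toCycles 0 1) w').ShortExact := by
  refine ⟨by rw [← cancel_mono (K.iCycles 1)]; simp [w], ?_⟩
  haveI := epi_toCycles K 0 h
  refine ShortComplex.ShortExact.mk' ?_ inferInstance this
  rw [ShortComplex.exact_iff_exact_up_to_refinements]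
  intro A x hx
  change (x ≫ K.toCycles 0 1) = 0 at hx
  exact hι.exact_up_to_refinements x (by
    change x ≫ K.d 0 1 = 0
    rw [show x ≫ K.d 0 1 = (x ≫ K.toCycles 0 1) ≫ K.iCycles 1 by simp, hx, zero_comp])

include hι in
/-- Sections over an acyclic open of a flasque resolution form an exact sequence. -/
theorem sections_exact (hK : ∀ p, TopCat.Sheaf.IsFlasque (K.X p)) (hex : ∀ p, K.ExactAt (p + 1))
    (U : Opens X) (hU : ∀ j, Subsingleton (E F (j + 1) U)) (p : ℕ)
    (z : (K.X (p + 1)).obj.obj (op U))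
    (hz : (K.d (p + 1) (p + 2)).hom.app (op U) z = 0) :
    ∃ y, (K.d p (p + 1)).hom.app (op U) y = z := by
  obtain ⟨w', hs⟩ := augSES_shortExact K ι w hι (hex 0)
  have hall : ∀ q, (∀ j, Subsingleton (E (K.cycles (q + 1)) (j + 1) U)) ∧
      Function.Surjective ((K.toCycles q (q + 1)).hom.app (op U)) := by
    intro q
    induction q with
    | zero => exact acyclic_step hs (hK 0) U hU
    | succ q ih => exact acyclic_step (cySES_shortExact K (q + 1) (hex (q + 1))) (hK (q + 1)) U ih.1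
  obtain ⟨c, hc⟩ := TopCat.Sheaf.sections_exact_of_left_exact
    (cySES_shortExact K (p + 1) (hex (p + 1))).1 (cySES_shortExact K (p + 1) (hex (p + 1))).2 z (show
      (K.toCycles (p + 1) (p + 2)).hom.app (op U) z = 0 by
      haveI : Mono ((K.iCycles (p + 2)).hom.app (op U)) :=
        inferInstanceAs (Mono (((sheafToPresheaf _ _ ⋙
          (evaluation (Opens X)ᵒᵖ AddCommGrpCat.{u}).obj (op U))).map (K.iCycles (p + 2))))
      apply (AddCommGrpCat.mono_iff_injective _).1 this
      rw [map_zero]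
      refine Eq.trans ?_ hz
      exact ConcreteCategory.congr_hom
        (congrArg (fun f => f.hom.app (op U)) (K.toCycles_i (p + 1) (p + 2))) z)
  obtain ⟨y, rfl⟩ := (hall p).2 c
  refine ⟨y, ?_⟩
  rw [← hc]
  exact (ConcreteCategory.congr_hom
    (congrArg (fun f => f.hom.app (op U)) (K.toCycles_i p (p + 1))) y).symm

end RLim49
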