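import Mathlib.CategoryTheory.Abelian.Basic
import Mathlib.CategoryTheory.Preadditive.Injective.Basic
import Mathlib.CategoryTheory.Limits.Shapes.Products
import Mathlib.CategoryTheory.Abelian.FunctorCategory

/-! Injective towers in an abelian category have injective terms and split transition maps. -/

set_option autoImplicit false
universe v u

open CategoryTheory CategoryTheory.Limits Opposite

namespace RLim49

variable {C : Type u} [Category.{v} C] [Abelian C] [EnoughInjectives C] (I : ℕᵒᵖ ⥤ C)

/-- The injective objects used in `seg`. -/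
noncomputable abbrev hull (n : ℕ) (k : Fin (n + 1)) : C := Injective.under (I.obj (op k.1))

/-- Products of injective hulls of initial segments. -/
noncomputable def seg : ℕᵒᵖ ⥤ C where
  obj n := ∏ᶜ hull I n.unop
  map {n m} f := Pi.lift fun k : Fin (m.unop + 1) =>
    Pi.π (hull I n.unop) ⟨k.1, lt_of_lt_of_le k.2 (Nat.succ_le_succ (leOfHom f.unop))⟩
  map_id n := Pi.hom_ext _ _ fun k => by simp
  map_comp f g := Pi.hom_ext _ _ fun k => by simp

/-- The embedding into `seg`. -/
noncomputable def toSeg : I ⟶ seg I where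
  app n := Pi.lift fun k : Fin (n.unop + 1) =>
    I.map (homOfLE (Nat.le_of_lt_succ k.2)).op ≫ Injective.ι _
  naturality n m f := Pi.hom_ext _ _ fun k => by
    simp only [seg, Category.assoc, Pi.lift_π]
    rw [← Category.assoc, ← I.map_comp]
    rfl

lemma mono_toSeg_app (n : ℕᵒᵖ) : Mono ((toSeg I).app n) := by
  obtain ⟨n⟩ := n
  have h : (toSeg I).app (op n) ≫ Pi.π (hull I n) (Fin.last n) = Injective.ι (I.obj (op n)) := by
    refine (Pi.lift_π (f := hull I n) _ _).trans ?_
    have e : I.map (homOfLE (Nat.le_of_lt_succ (Fin.last n).2)).op = 𝟙 (I.obj (op n)) :=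
      (congrArg I.map (Subsingleton.elim _ (𝟙 (op n)))).trans (I.map_id _)
    exact (congrArg (· ≫ Injective.ι _) e).trans (Category.id_comp _)
  haveI : Mono ((toSeg I).app (op n) ≫ Pi.π (hull I n) (Fin.last n)) := h ▸ inferInstance
  exact mono_of_mono _ (Pi.π (hull I n) (Fin.last n))

lemma exists_retraction [Injective I] : ∃ r : seg I ⟶ I, toSeg I ≫ r = 𝟙 I := by
  haveI : ∀ n, Mono ((toSeg I).app n) := mono_toSeg_app I
  haveI : Mono (toSeg I) := NatTrans.mono_of_mono_app _
  exact ⟨Injective.factorThru (𝟙 I) (toSeg I), Injective.comp_factorThru _ _⟩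

/-- The terms of an injective tower are injective. -/
lemma injective_obj [Injective I] (n : ℕ) : Injective (I.obj (op n)) := by
  obtain ⟨r, hr⟩ := exists_retraction I
  haveI : Injective ((seg I).obj (op n)) :=
    inferInstanceAs (Injective (∏ᶜ hull I n))
  exact Retract.injective ⟨(toSeg I).app (op n), r.app (op n),
    congrArg (fun f => NatTrans.app f (op n)) hr⟩

/-- The transition maps of an injective tower are split epimorphisms. -/
lemma exists_section [Injective I] (n : ℕ) :
    ∃ s : I.obj (op n) ⟶ I.obj (op (n + 1)),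
      s ≫ I.map (homOfLE (Nat.le_succ n)).op = 𝟙 _ := by
  obtain ⟨r, hr⟩ := exists_retraction I
  let σ : (seg I).obj (op n) ⟶ (seg I).obj (op (n + 1)) := Pi.lift fun k =>
    if h : k.1 < n + 1 then Pi.π (hull I n) ⟨k.1, h⟩ else 0
  have hσ : σ ≫ (seg I).map (homOfLE (Nat.le_succ n)).op = 𝟙 _ := by
    refine Pi.hom_ext _ _ fun k => ?_
    refine (Category.assoc _ _ _).trans ?_
    refine (congrArg (σ ≫ ·) (Pi.lift_π (f := hull I n) _ k)).trans ?_
    refine (Pi.lift_π (f := hull I (n + 1)) _ _).trans ?_
    refine (dif_pos k.2).trans ?_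
    exact (Category.id_comp _).symm
  refine ⟨(toSeg I).app (op n) ≫ σ ≫ r.app (op (n + 1)), ?_⟩
  rw [Category.assoc, Category.assoc, ← r.naturality, reassoc_of% hσ]
  exact congrArg (fun f => NatTrans.app f (op n)) hr

end RLim49
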