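import Groth.Prelude.Def_CohTop
import Groth.Agent.RLim49.InjTower
import Groth.Agent.RLim49.Flasque
import Groth.Agent.ML41.Basic
import Groth.Agent.SiteMod.Injective
import Groth.Agent.QC70.ToSheaf
import Mathlib.Algebra.Category.ModuleCat.Sheaf.Limits
import Mathlib.Algebra.Category.ModuleCat.Sheaf.Abelian
import Mathlib.CategoryTheory.Abelian.RightDerived
import Mathlib.CategoryTheory.Abelian.FunctorCategory
import Mathlib.CategoryTheory.CofilteredSystem
import Mathlib.Topology.Bases

/-! Derived limits of towers of sheaves of modules acyclic on a basis. -/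

set_option autoImplicit false
set_option linter.style.haveILetI false
universe u

open CategoryTheory CategoryTheory.Limits Opposite TopologicalSpace

namespace RLim49

/-- Compatible families in the image of `v` lift to compatible families when the kernel tower is
Mittag-Leffler. -/
lemma exists_compat_lift {A B C : ℕᵒᵖ ⥤ AddCommGrpCat.{u}} (a : A ⟶ B) (b : B ⟶ C)
    (hex : ∀ n, ∀ x, (b.app n).hom x = 0 → ∃ y, (a.app n).hom y = x)
    (hba : ∀ n, ∀ y, (b.app n).hom ((a.app n).hom y) = 0)
    (hA : ML41.IsML A) (z : ∀ n, C.obj (op n)) (hz : ML41.Compat C z)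
    (hlift : ∀ n, ∃ y, (b.app (op n)).hom y = z n) :
    ∃ x : ∀ n, B.obj (op n), ML41.Compat B x ∧ ∀ n, (b.app (op n)).hom (x n) = z n := by
  choose y hy using hlift
  obtain ⟨x, hx, hx'⟩ := ML41.exists_compat ML41.exists_cofinal_nat a hA y (fun i j h => hex _ _ (by
    rw [map_sub, ML41.app_tr, hy, hy, hz h, sub_self]))
  refine ⟨x, hx, fun n => ?_⟩
  obtain ⟨c, hc⟩ := hx' n
  rw [show x n = (a.app (op n)).hom c + y n by rw [hc]; abel, map_add, hba, hy, zero_add]

lemma exact_of_local {X : TopCat.{u}} (S : ShortComplex (CohTop.Ab X))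
    (h : ∀ (U : Opens X) (s : S.X₂.obj.obj (op U)) (x : X), S.g.hom.app (op U) s = 0 → x ∈ U →
      ∃ (V : Opens X) (hV : V ≤ U), x ∈ V ∧
        ∃ t, S.f.hom.app (op V) t = S.X₂.obj.map (homOfLE hV).op s) : S.Exact := by
  rw [S.exact_iff_epi_kernel_lift]
  refine Groth.Agent.TopCoh49.epi_of_locally_surjective _ fun U s x hx => ?_
  let ι := kernel.ι S.g
  obtain ⟨V, hV, hxV, t, ht⟩ := h U (ι.hom.app (op U) s) x
    (ConcreteCategory.congr_hom (congrArg (fun f => f.hom.app (op U)) (kernel.condition S.g)) s) hx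
  refine ⟨V, hV, hxV, t, ?_⟩
  haveI : Mono (ι.hom.app (op V)) :=
    inferInstanceAs (Mono (((sheafToPresheaf _ _ ⋙
      (evaluation (Opens X)ᵒᵖ AddCommGrpCat.{u}).obj (op V))).map ι))
  apply (AddCommGrpCat.mono_iff_injective _).1 this
  refine (ConcreteCategory.congr_hom
    (congrArg (fun f => f.hom.app (op V)) (kernel.lift_ι S.g S.f S.zero)) t).trans (ht.trans ?_)
  exact (ConcreteCategory.congr_hom (ι.hom.naturality (homOfLE hV).op) s).symm

variable {X : TopCat.{u}} (R : Sheaf (Opens.grothendieckTopology X) RingCat.{u})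

/-- Sections over `U` of a sheaf of modules, as an abelian group. -/
noncomputable abbrev secFun (U : Opens X) : SheafOfModules.{u} R ⥤ AddCommGrpCat.{u} :=
  SheafOfModules.toSheaf R ⋙
    (sheafSections (Opens.grothendieckTopology X) AddCommGrpCat.{u}).obj (op U)

lemma preservesLimitsOfShape_secFun (U : Opens X) :
    PreservesLimitsOfShape ℕᵒᵖ (secFun R U) :=
  preservesLimitsOfShape_of_natIso
    (Iso.refl _ : SheafOfModules.evaluation R (op U) ⋙ forget₂ _ AddCommGrpCat.{u} ≅ secFun R U)

lemma isFlasque_of_injective (I : SheafOfModules.{u} R) [Injective I] :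
    TopCat.Sheaf.IsFlasque ((SheafOfModules.toSheaf R).obj I) where
  epi {U V} i := by
    rw [AddCommGrpCat.epi_iff_surjective]
    exact Groth.Agent.SiteMod.restriction_surjective R I i.unop

variable (E : ℕᵒᵖ ⥤ SheafOfModules.{u} R) (J : InjectiveResolution E)

/-- The level `n` of a tower of sheaves of modules, as an abelian sheaf. -/
noncomputable abbrev levFun (n : ℕ) : (ℕᵒᵖ ⥤ SheafOfModules.{u} R) ⥤ CohTop.Ab X :=
  (evaluation ℕᵒᵖ (SheafOfModules.{u} R)).obj (op n) ⋙ SheafOfModules.toSheaf R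

noncomputable instance preservesFiniteLimits_levFun (n : ℕ) :
    PreservesFiniteLimits (levFun R n) := by
  haveI : PreservesFiniteLimits ((evaluation ℕᵒᵖ (SheafOfModules.{u} R)).obj (op n)) :=
    ⟨fun J _ _ => inferInstance⟩
  exact comp_preservesFiniteLimits _ _

noncomputable instance preservesFiniteColimits_levFun (n : ℕ) :
    PreservesFiniteColimits (levFun R n) := by
  haveI : PreservesFiniteColimits ((evaluation ℕᵒᵖ (SheafOfModules.{u} R)).obj (op n)) :=
    ⟨fun J _ _ => inferInstance⟩
  exact comp_preservesFiniteColimits _ _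

instance additive_levFun (n : ℕ) : (levFun R n).Additive := inferInstance

instance preservesZeroMorphisms_levFun (n : ℕ) : (levFun R n).PreservesZeroMorphisms :=
  Functor.preservesZeroMorphisms_of_additive _

instance preservesMonomorphisms_levFun (n : ℕ) : (levFun R n).PreservesMonomorphisms :=
  preservesMonomorphisms_of_preservesLimitsOfShape _

/-- The resolution at level `n`, in abelian sheaves. -/
noncomputable abbrev lev (n : ℕ) : CochainComplex (CohTop.Ab X) ℕ :=
  ((levFun R n).mapHomologicalComplex _).obj J.cocomplex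

lemma isFlasque_lev (n p : ℕ) : TopCat.Sheaf.IsFlasque ((lev R E J n).X p) := by
  haveI := J.injective p
  exact @isFlasque_of_injective _ R _ (injective_obj (J.cocomplex.X p) n)

lemma exactAt_lev (n p : ℕ) : (lev R E J n).ExactAt (p + 1) :=
  (J.cocomplex_exactAt_succ p).map (levFun R n)

/-- The augmentation of the resolution. -/
noncomputable abbrev aug : E ⟶ J.cocomplex.X 0 := J.ι.f 0

lemma aug_d : aug R E J ≫ J.cocomplex.d 0 1 = 0 := J.ι_f_zero_comp_complex_d

variable (B : Set (Opens X)) (ha : ∀ U ∈ B, ∀ (n i : ℕ), 1 ≤ i →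
      Subsingleton (CohTop.HU ((SheafOfModules.toSheaf R).obj (E.obj (op n))) i U))

/-- The sections over `U` of a term of the resolution. -/
noncomputable abbrev secT (U : Opens X) (p : ℕ) : ℕᵒᵖ ⥤ AddCommGrpCat.{u} :=
  J.cocomplex.X p ⋙ secFun R U

/-- The sections over `U` of a differential. -/
noncomputable abbrev secD (U : Opens X) (p q : ℕ) : secT R E J U p ⟶ secT R E J U q :=
  Functor.whiskerRight (J.cocomplex.d p q) (secFun R U)

lemma secD_secD (U : Opens X) (p q r : ℕ) (n : ℕᵒᵖ) (y : (secT R E J U p).obj n) :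
    ((secD R E J U q r).app n).hom (((secD R E J U p q).app n).hom y) = 0 := by
  have h : (secFun R U).map ((J.cocomplex.d p q).app n) ≫
      (secFun R U).map ((J.cocomplex.d q r).app n) = 0 := by
    rw [← Functor.map_comp, ← NatTrans.comp_app, J.cocomplex.d_comp_d, NatTrans.app_zero,
      Functor.map_zero]
  exact ConcreteCategory.congr_hom h y

lemma isML_secT (U : Opens X) (p : ℕ) : ML41.IsML (secT R E J U p) := by
  haveI := J.injective p
  refine ML41.isML_of_succ_surjective fun n y => ?_
  obtain ⟨s, hs⟩ := exists_section (J.cocomplex.X p) n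
  refine ⟨((secFun R U).map s).hom y, ?_⟩
  refine (ConcreteCategory.congr_hom ((secFun R U).map_comp s _).symm y).trans ?_
  rw [hs]
  exact ConcreteCategory.congr_hom ((secFun R U).map_id _) y

include ha in
lemma secD_exact (U : Opens X) (hU : U ∈ B) (p : ℕ) (n : ℕᵒᵖ)
    (z : (secT R E J U (p + 1)).obj n) (hz : ((secD R E J U (p + 1) (p + 2)).app n).hom z = 0) :
    ∃ y, ((secD R E J U p (p + 1)).app n).hom y = z := by
  obtain ⟨n⟩ := n
  haveI : Mono ((levFun R n).map (aug R E J)) := by
    haveI : Mono (aug R E J) := inferInstanceAs (Mono (J.ι.f 0))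
    exact (levFun R n).map_mono (aug R E J)
  have hex : (ShortComplex.mk ((levFun R n).map (aug R E J)) ((lev R E J n).d 0 1)
      (by change (levFun R n).map _ ≫ (levFun R n).map (J.cocomplex.d 0 1) = 0
          rw [← Functor.map_comp, aug_d, Functor.map_zero])).Exact :=
    J.exact₀.map (levFun R n)
  exact @sections_exact _ (lev R E J n) _ ((levFun R n).map (aug R E J)) _ hex this
    (isFlasque_lev R E J n) (exactAt_lev R E J n) U
    (fun j => ha U hU n (j + 1) (Nat.succ_pos j)) p z hz

/-- If each compatible family of cycles on the basis is a compatible boundary, then the derived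
limit vanishes. -/
lemma isZero_rightDerived_of_lift
    [(lim : (ℕᵒᵖ ⥤ SheafOfModules.{u} R) ⥤ SheafOfModules.{u} R).Additive]
    [HasInjectiveResolutions (ℕᵒᵖ ⥤ SheafOfModules.{u} R)] (hB : Opens.IsBasis B) (m : ℕ)
    (h : ∀ U ∈ B, ∀ z : ∀ n, (secT R E J U (m + 1)).obj (op n), ML41.Compat _ z →
      (∀ n, ((secD R E J U (m + 1) (m + 2)).app (op n)).hom (z n) = 0) →
      ∃ w : ∀ n, (secT R E J U m).obj (op n), ML41.Compat _ w ∧
        ∀ n, ((secD R E J U m (m + 1)).app (op n)).hom (w n) = z n) :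
    IsZero (((lim : (ℕᵒᵖ ⥤ SheafOfModules.{u} R) ⥤ SheafOfModules.{u} R).rightDerived (m + 1)).obj
      E) := by
  let L : (ℕᵒᵖ ⥤ SheafOfModules.{u} R) ⥤ SheafOfModules.{u} R := lim
  refine IsZero.of_iso ?_ (J.isoRightDerivedObj L (m + 1))
  refine (HomologicalComplex.exactAt_iff_isZero_homology _ _).1 ?_
  rw [HomologicalComplex.exactAt_iff' _ m (m + 1) (m + 2) (by simp) (by simp),
    ← ShortComplex.exact_map_iff_of_faithful _ (SheafOfModules.toSheaf R)]
  refine exact_of_local _ fun V s x hs hx => ?_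
  obtain ⟨U, hUB, hxU, hUV⟩ := Opens.isBasis_iff_nbhd.1 hB hx
  refine ⟨U, hUV, hxU, ?_⟩
  haveI := preservesLimitsOfShape_secFun R U
  let c := fun p => isLimitOfPreserves (secFun R U) (limit.isLimit (J.cocomplex.X p))
  let π := fun p (n : ℕᵒᵖ) => (secFun R U).map (limit.π (J.cocomplex.X p) n)
  let s' : (secFun R U).obj (L.obj (J.cocomplex.X (m + 1))) :=
    ((SheafOfModules.toSheaf R).obj (L.obj (J.cocomplex.X (m + 1)))).obj.map (homOfLE hUV).op s
  have hs' : ((secFun R U).map (L.map (J.cocomplex.d (m + 1) (m + 2)))).hom s' = 0 := by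
    refine (ConcreteCategory.congr_hom
      (((SheafOfModules.toSheaf R).map (L.map (J.cocomplex.d (m + 1) (m + 2)))).hom.naturality
        (homOfLE hUV).op) s).trans ?_
    exact (congrArg (fun t => (((SheafOfModules.toSheaf R).obj (L.obj (J.cocomplex.X (m + 2)))).obj.map (homOfLE hUV).op).hom t) hs).trans (map_zero _)
  have hπ : ∀ p q n (y : (secFun R U).obj (L.obj (J.cocomplex.X p))),
      (π q n).hom (((secFun R U).map (L.map (J.cocomplex.d p q))).hom y) =
        ((secD R E J U p q).app n).hom ((π p n).hom y) := by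
    intro p q n y
    have e : (secFun R U).map (L.map (J.cocomplex.d p q)) ≫ π q n =
        π p n ≫ (secD R E J U p q).app n := by
      change _ = (secFun R U).map _ ≫ (secFun R U).map _
      rw [← Functor.map_comp, ← Functor.map_comp]
      exact congrArg (secFun R U).map (limMap_π _ _)
    exact ConcreteCategory.congr_hom e y
  obtain ⟨w, hw, hw'⟩ := h U hUB (fun n => (π (m + 1) (op n)).hom s')
    (fun i j hij => ConcreteCategory.congr_hom
      (((secFun R U).map_comp _ _).symm.trans
        (congrArg (secFun R U).map (limit.w (J.cocomplex.X (m + 1)) (homOfLE hij).op))) s')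
    (fun n => by rw [← hπ, hs', map_zero])
  obtain ⟨W, hW⟩ := ML41.cone_mk (c m) (fun j => w j.unop) (fun f => hw (leOfHom f.unop))
  refine ⟨W, ?_⟩
  apply ML41.cone_ext (c (m + 1))
  intro n
  refine (hπ m (m + 1) n W).trans ?_
  refine (congrArg _ (hW n)).trans ?_
  exact hw' n.unop

theorem main [(lim : (ℕᵒᵖ ⥤ SheafOfModules.{u} R) ⥤ SheafOfModules.{u} R).Additive]
    [HasInjectiveResolutions (ℕᵒᵖ ⥤ SheafOfModules.{u} R)] (hB : Opens.IsBasis B)
    (ha : ∀ U ∈ B, ∀ (n i : ℕ), 1 ≤ i →
      Subsingleton (CohTop.HU ((SheafOfModules.toSheaf R).obj (E.obj (op n))) i U)) :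
    (∀ i : ℕ, 2 ≤ i →
      IsZero (((lim : (ℕᵒᵖ ⥤ SheafOfModules.{u} R) ⥤ SheafOfModules.{u} R).rightDerived i).obj E)) ∧
    ((∀ U ∈ B, (E ⋙ SheafOfModules.toSheaf R ⋙
        (sheafSections (Opens.grothendieckTopology X) AddCommGrpCat.{u}).obj (op U) ⋙
          forget AddCommGrpCat.{u}).IsMittagLeffler) →
      ∀ i : ℕ, 1 ≤ i →
        IsZero (((lim : (ℕᵒᵖ ⥤ SheafOfModules.{u} R) ⥤ SheafOfModules.{u} R).rightDerived i).obj
          E)) := by
  let J := (HasInjectiveResolution.out (Z := E)).some
  have two : ∀ i : ℕ, 2 ≤ i →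
      IsZero (((lim : (ℕᵒᵖ ⥤ SheafOfModules.{u} R) ⥤ SheafOfModules.{u} R).rightDerived i).obj
        E) := by
    intro i hi
    obtain ⟨q, rfl⟩ : ∃ q, i = q + 1 + 1 := ⟨i - 2, by omega⟩
    refine isZero_rightDerived_of_lift R E J B hB (q + 1) fun U hU z hz hz' => ?_
    exact exists_compat_lift (secD R E J U q (q + 1)) (secD R E J U (q + 1) (q + 2))
      (fun n x hx => secD_exact R E J B ha U hU q n x hx)
      (fun n y => secD_secD R E J U _ _ _ n y) (isML_secT R E J U q) z hz
      (fun n => secD_exact R E J B ha U hU (q + 1) (op n) (z n) (hz' n))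
  refine ⟨two, fun hML i hi => ?_⟩
  by_cases h2 : 2 ≤ i
  · exact two i h2
  obtain rfl : i = 0 + 1 := by omega
  refine isZero_rightDerived_of_lift R E J B hB 0 fun U hU z hz hz' => ?_
  refine exists_compat_lift (Functor.whiskerRight (aug R E J) (secFun R U)) (secD R E J U 0 1)
    ?_ ?_ ((ML41.ml_iff _).1 (hML U hU)) z hz
    (fun n => secD_exact R E J B ha U hU 0 (op n) (z n) (hz' n))
  · rintro ⟨n⟩ x hx
    haveI : Mono (aug R E J) := inferInstanceAs (Mono (J.ι.f 0))
    have hE : ((ShortComplex.mk (aug R E J) (J.cocomplex.d 0 1) (aug_d R E J)).map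
        (levFun R n)).Exact := J.exact₀.map (levFun R n)
    exact TopCat.Sheaf.sections_exact_of_left_exact hE
      ((levFun R n).map_mono (aug R E J)) x hx
  · intro n y
    have e : (secFun R U).map ((aug R E J).app n) ≫
        (secFun R U).map ((J.cocomplex.d 0 1).app n) = 0 := by
      rw [← Functor.map_comp, ← NatTrans.comp_app, aug_d, NatTrans.app_zero, Functor.map_zero]
    exact ConcreteCategory.congr_hom e y

end RLim49
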